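import Cfsg.Agent.Lib.KnownA.ReeMultiplier.Three
import Cfsg.Agent.Lib.Chevalley.Twist.G2Cent
import Cfsg.Agent.Lib.Chevalley.Twist.G2Sylow

/-!
The Schur multiplier of `²G₂(q)`, `q > 3`, is trivial.
-/

set_option autoImplicit false
set_option maxRecDepth 20000
set_option Elab.async false
set_option linter.unusedSectionVars false

namespace CfsgLib.KnownA.ReeMultiplier

open CfsgLib.Chevalley.Twist CfsgLib.Chevalley.Twist.G2 CfsgLib.KnownA.SuzukiMultiplier
open scoped commutatorElement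

variable {K : Type*} [Field K] [Finite K] {m : ℕ} (hK : Nat.card K = 3 ^ (2 * m + 1))
include hK

section Two

variable {E : Type*} [Group E] {π : E →* ↥(S hK).fix} (hπ : Function.Surjective π)
  (hk : π.ker ≤ Subgroup.center E)
include hπ hk

/-- The preimage of a Sylow 2-subgroup is abelian. -/
theorem eight_comap_bot : (commutator ((eight hK).comap π)).map ((eight hK).comap π).subtype = ⊥ := by
  set g := gam π hπ with hg
  have hgc : ∀ {a b}, Commute a b → π (g a b) = 1 := fun {a b} h => by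
    rw [hg, map_gam, commutatorElement_eq_one_iff_mul_comm]
    exact h.eq
  have ginv : ∀ {a b}, Commute a b → ∀ q, g (q * a * q⁻¹) (q * b * q⁻¹) = g a b := fun {a b} h q => by
    have e := conj_gam hπ hk (Function.surjInv hπ q) a b
    rw [Function.surjInv_eq hπ, ← hg, comm_of_ker hk (hgc h), mul_inv_cancel_right] at e
    exact e.symm
  have hgl : ∀ {a a' b}, Commute a' b → g (a * a') b = g a b * g a' b := fun {a a' b} h => by
    rw [hg, gam_mul_left hπ hk _ _ _ (gam_central hπ hk h _)]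
    exact (comm_of_ker hk (hgc h) _).symm
  have hgr : ∀ {a b b'}, Commute a b' → g a (b * b') = g a b * g a b' := fun {a b b'} h => by
    rw [hg, gam_mul_right hπ hk _ _ _ (gam_central hπ hk h _)]
  obtain ⟨r1, r2⟩ := gg_rel hK
  set y := gen2 hK (QuotientGroup.mk gg) with hy
  have hyh : y * h0 hK * y⁻¹ = h0 hK := by
    rw [mul_inv_eq_iff_eq_mul]
    exact (Subgroup.mem_centralizer_iff.mp (Subgroup.mem_inf.mp (gg_mem hK)).2 _ rfl).symm
  have hmul : ∀ a b, gen2 hK (a * b) = gen2 hK a * gen2 hK b := fun a b => by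
    simp only [gen2, ← map_mul, Prod.mk_mul_mk, mul_one]
  have c1 : y * gen2 hK wb * y⁻¹ = gen2 hK (vb hK) := by
    rw [mul_inv_eq_iff_eq_mul, hy, ← hmul, ← hmul, r1]
  have c2 : y * gen2 hK (vb hK) * y⁻¹ = gen2 hK (wb * vb hK) := by
    rw [mul_inv_eq_iff_eq_mul, hy, ← hmul, ← hmul, r2]
  have hcm : ∀ {k}, k ∈ (klein hK).range → Commute (h0 hK) (gen2 hK k) := fun hk' =>
    eight_comm hK (h0_mem_eight hK) (gen2_mem hK hk')
  have hw := hcm (mem_klein hK (Or.inr (Or.inl rfl)))
  have hv := hcm (mem_klein hK (Or.inr (Or.inr (Or.inl rfl))))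
  have ev : g (h0 hK) (gen2 hK (vb hK)) = g (h0 hK) (gen2 hK wb) := by
    have h := ginv hw y
    rwa [hyh, c1] at h
  have ewv : g (h0 hK) (gen2 hK (wb * vb hK)) = g (h0 hK) (gen2 hK (vb hK)) := by
    have h := ginv hv y
    rwa [hyh, c2] at h
  rw [hmul, hgr hv, mul_eq_right] at ewv
  have ev1 : g (h0 hK) (gen2 hK (vb hK)) = 1 := ev.trans ewv
  have hone : ∀ q, g q q = 1 := gam_self hπ hk
  have h1 : g (h0 hK) 1 = 1 := by
    have h := hgr (a := h0 hK) (b := 1) (b' := 1) (Commute.one_right _)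
    rwa [one_mul, left_eq_mul] at h
  have h0e : ∀ e ∈ eight hK, g (h0 hK) e = 1 := by
    rintro _ ⟨⟨a, k⟩, rfl⟩
    have e : eightHom hK (a, k) = iota hK a * gen2 hK (klein hK k) := by
      show psi hK (a, klein hK k) = _
      rw [gen2, psi, MonoidHom.noncommCoprod_apply, MonoidHom.noncommCoprod_apply]
      dsimp only
      rw [map_one (iota hK), one_mul]
    rw [e, hgr (hcm ⟨k, rfl⟩)]
    have hi : g (h0 hK) (iota hK a) = 1 := by
      rcases iota_cases hK a with h | h <;> rw [h]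
      exacts [h1, hone _]
    rw [hi, one_mul]
    rcases klein_range_cases hK ⟨k, rfl⟩ with h | h | h | h <;> rw [h]
    · rw [show gen2 hK 1 = 1 by rw [gen2, ← Prod.one_eq_mk, map_one], h1]
    · exact ewv
    · exact ev1
    · rw [hmul, hgr hv, ewv, ev1, one_mul]
  have hall : ∀ x ∈ eight hK, ∀ e ∈ eight hK, g x e = 1 := by
    intro x hx e he
    rcases eq_or_ne x 1 with rfl | hx1
    · have h := hgl (a := 1) (a' := 1) (b := e) (Commute.one_left _)
      rwa [one_mul, left_eq_mul] at h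
    obtain ⟨n, hn, rfl⟩ := eight_conj_transitive hK hx hx1
    obtain ⟨e', he', rfl⟩ : ∃ e', e' ∈ eight hK ∧ n * e' * n⁻¹ = e :=
      ⟨n⁻¹ * e * n, ((mem_nor hK).mp hn _).mpr (by rw [show n * (n⁻¹ * e * n) * n⁻¹ = e by group]; exact he),
        by group⟩
    rw [ginv (eight_comm hK (h0_mem_eight hK) he')]
    exact h0e e' he'
  rw [eq_bot_iff, Subgroup.map_le_iff_le_comap, _root_.commutator_def, Subgroup.commutator_le]
  rintro ⟨x, hx⟩ - ⟨z, hz⟩ -
  show ⁅x, z⁆ ∈ (⊥ : Subgroup E)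
  rw [Subgroup.mem_bot, commutator_eq_gam hπ hk]
  exact hall _ hx _ hz

end Two

/-- The orders of the two cyclic tori have index prime to the primes dividing them. -/
theorem index_facts {p : ℕ} (hp : p.Prime) (hp2 : p ≠ 2) (hp3 : p ≠ 3) :
    (p ∣ 3 ^ (2 * m + 1) - 1 → ¬ p ∣ (hF hK).range.index) ∧
      (p ∣ 3 ^ (2 * m + 1) + 1 → ¬ p ∣ (aTor hK).index) := by
  set q := 3 ^ (2 * m + 1) with hq
  have hG : Nat.card ↥(S hK).fix = q ^ 3 * (q - 1) * (q ^ 3 + 1) := fix_card_eq hK
  obtain ⟨hq3, hq8, -, hfac⟩ := q_facts m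
  rw [← hq] at hq3 hq8 hfac
  have hpq : ¬ p ∣ q ^ 3 := fun h => hp3 ((Nat.prime_dvd_prime_iff_eq hp Nat.prime_three).1
    (hp.dvd_of_dvd_pow (hp.dvd_of_dvd_pow h)))
  have hcast : ∀ n : ℕ, p ∣ n ↔ ((n : ZMod p) = 0) := fun n => (ZMod.natCast_eq_zero_iff n p).symm
  constructor
  · intro h1 hd
    have hi : (hF hK).range.index = q ^ 3 * (q ^ 3 + 1) := by
      have h := (hF hK).range.card_mul_index
      rw [card_torus hK, hG] at h
      refine Nat.eq_of_mul_eq_mul_left (show 0 < q - 1 by omega) (h.trans ?_)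
      ring
    rw [hi, hp.dvd_mul] at hd
    rcases hd with hd | hd
    · exact hpq hd
    · rw [hcast] at h1 hd
      rw [Nat.cast_sub (by omega), sub_eq_zero] at h1
      push_cast at h1 hd
      rw [h1] at hd
      exact hp2 ((Nat.prime_dvd_prime_iff_eq hp Nat.prime_two).1 ((hcast 2).2 (by
        linear_combination hd)))
  · intro h1 hd
    have hkq : 4 * kq m = q + 1 := by
      rw [kq, ← hq]; omega
    have hi : (aTor hK).index = q ^ 3 * (q - 1) * (4 * hexN m) := by
      have h := (aTor hK).card_mul_index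
      rw [card_aTor hK, hG, hfac] at h
      refine Nat.eq_of_mul_eq_mul_left (show 0 < kq m by omega) (h.trans ?_)
      rw [← hkq]; ring
    rw [hi, hp.dvd_mul, hp.dvd_mul, hp.dvd_mul] at hd
    rcases hd with (hd | hd) | hd | hd
    · exact hpq hd
    · rw [hcast] at h1 hd
      rw [Nat.cast_sub (by omega), sub_eq_zero] at hd
      push_cast at h1 hd
      rw [hd] at h1
      exact hp2 ((Nat.prime_dvd_prime_iff_eq hp Nat.prime_two).1 ((hcast 2).2 (by linear_combination h1)))
    · exact hp2 ((Nat.prime_dvd_prime_iff_eq hp Nat.prime_two).1 (hp.dvd_of_dvd_pow (show p ∣ 2 ^ 2 from hd)))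
    · have e : hexN m + q = q ^ 2 + 1 := by
        rw [hexN, ← hq]
        have : q ≤ q ^ 2 := Nat.le_self_pow (by norm_num) q
        omega
      rw [hcast] at h1 hd
      have e' := congrArg (fun n : ℕ => (n : ZMod p)) e
      push_cast at h1 e'
      rw [hd, zero_add] at e'
      exact hp3 ((Nat.prime_dvd_prime_iff_eq hp Nat.prime_three).1 ((hcast 3).2 (by
        push_cast
        linear_combination -e' + (2 - (q : ZMod p)) * h1)))

/-- The multiplier is trivial. -/
theorem hasCyclicSchurMultiplier_one (hm : 1 ≤ m) : Cfsg.HasCyclicSchurMultiplier ↥(S hK).fix 1 := by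
  haveI : Finite ↥(S hK).fix := Nat.finite_of_card_ne_zero (by
    rw [fix_card_eq hK]
    have : 3 ≤ 3 ^ (2 * m + 1) := Nat.le_self_pow (by omega) 3
    exact Nat.mul_ne_zero (Nat.mul_ne_zero (by positivity) (by omega)) (by positivity))
  refine CfsgLib.Schur.Basic.hasCyclicSchurMultiplier_one_of fun Γ _ _ σ hσ => ?_
  obtain ⟨hsurj, hk, hd⟩ := hσ
  rw [eq_bot_iff]
  intro z hz
  rw [Subgroup.mem_bot]
  refine CfsgLib.Schur.Bound.eq_one_of_pow_index z _ Nat.card_pos.ne' (fun p hpp hdvd => ?_)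
    (CfsgLib.Schur.Bound.pow_card_eq_one σ hsurj hk hz (hd hz))
  haveI := Fact.mk hpp
  rcases eq_or_ne p 2 with rfl | hp2
  · refine ⟨(eight hK).index, ?_, ?_⟩
    · intro h
      have h8 := (eight hK).card_mul_index
      rw [card_eight hK] at h8
      have h16 : 2 ^ 4 ∣ Nat.card ↥(S hK).fix := by
        rw [← h8]
        obtain ⟨c, hc⟩ := h
        exact ⟨c, by rw [hc]; ring⟩
      have := (Nat.prime_two.pow_dvd_iff_le_factorization Nat.card_pos.ne').1 h16
      rw [factor_two hK] at this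
      omega
    · have h := CfsgLib.Schur.Bound.pow_index_mem σ hsurj (eight hK) (hk hz) (hd hz)
      rwa [eight_comap_bot hK hsurj hk, Subgroup.mem_bot] at h
  rcases eq_or_ne p 3 with rfl | hp3
  · refine ⟨(Upart hK).index, ?_, ?_⟩
    · have h := (Upart hK).card_mul_index
      rw [card_Upart hK, fix_card_eq hK, mul_assoc] at h
      rw [Nat.eq_of_mul_eq_mul_left (by positivity) h, Nat.prime_three.dvd_mul]
      obtain ⟨hq3, -, hdq, -⟩ := q_facts m
      obtain ⟨j, hj⟩ := hdq
      rintro (h | h)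
      · omega
      · have h' : 3 ∣ (3 ^ (2 * m + 1)) ^ 3 := dvd_pow (hj ▸ dvd_mul_right 3 j) (by norm_num)
        omega
    · exact eq_one_three hK hsurj hk hm (by rw [map_pow, show σ z = 1 from hz, one_pow])
        (CfsgLib.Schur.Bound.pow_index_mem σ hsurj _ (hk hz) (hd hz))
  obtain ⟨hi1, hi2⟩ := index_facts hK hpp hp2 hp3
  rw [fix_card_eq hK, hpp.dvd_mul, hpp.dvd_mul] at hdvd
  rcases hdvd with (h | h) | h
  · exact absurd ((Nat.prime_dvd_prime_iff_eq hpp Nat.prime_three).1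
      (hpp.dvd_of_dvd_pow (hpp.dvd_of_dvd_pow h))) hp3
  · haveI : IsCyclic ↥(hF hK).range := isCyclic_of_surjective _ (hF hK).rangeRestrict_surjective
    exact ⟨_, hi1 h, CfsgLib.Schur.Bound.pow_index_eq_one_of_cyclic σ hsurj hk _ hz (hd hz)⟩
  · rw [(q_facts m).2.2.2, hpp.dvd_mul] at h
    rcases h with h | h
    · haveI : IsCyclic ↥(aTor hK) := Subgroup.isCyclic_zpowers _
      exact ⟨_, hi2 h, CfsgLib.Schur.Bound.pow_index_eq_one_of_cyclic σ hsurj hk _ hz (hd hz)⟩
    · obtain ⟨R⟩ : Nonempty (Sylow p ↥(S hK).fix) := inferInstance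
      haveI := sylow_hex hK hm h R
      have h2 := CfsgLib.Schur.Bound.pow_index_eq_one_of_cyclic σ hsurj hk
        (R : Subgroup ↥(S hK).fix) hz (hd hz)
      have h1 : ¬ p ∣ (R : Subgroup ↥(S hK).fix).index := R.not_dvd_index
      exact ⟨_, h1, h2⟩

end CfsgLib.KnownA.ReeMultiplier
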