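import Cfsg.Agent.Lib.KnownA.SuzukiMultiplier
import Cfsg.Agent.Lib.KnownB.ReeGen

/-!
The prime three in the multiplier of `²G₂(q)`, `q > 3`: in a central extension the commutators of the preimage
of a Sylow 3-subgroup lie in a torus-equivariant lift of the derived part.  The biadditive pairings that arise
are invariant under the torus, hence trivial.
-/

set_option autoImplicit false
set_option maxRecDepth 20000
set_option Elab.async false
set_option linter.unusedSectionVars false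

namespace CfsgLib.KnownA.ReeMultiplier

open CfsgLib.Chevalley.Twist CfsgLib.Chevalley.Twist.G2 CfsgLib.KnownA.SuzukiMultiplier
open scoped commutatorElement

/-! ### Pairings -/

section Pairing

variable {K : Type*} [Field K] {M : Type*} [Group M]

/-- Two opposite signs kill a biadditive map. -/
theorem sign_trivial (h3 : (3 : K) = 0) (f : K → K → M) (hl : ∀ x y z, f (x + y) z = f x z * f y z)
    (hinv : ∀ x y, f (-x) y = f x y) (x y : K) : f x y = 1 := by
  have h0 : f 0 y = 1 := by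
    have h := hl 0 0 y
    rwa [add_zero, left_eq_mul] at h
  have h1 := hl x x y
  have h2 := hl x (-x) y
  rw [add_neg_cancel, h0, hinv] at h2
  rw [← h2, show x + x = -x by linear_combination x * h3, hinv] at h1
  exact h1

/-- Invariance along a multiplicative map that is not additive kills a biadditive map. -/
theorem twist_trivial (f : K → K → M) (hl : ∀ x y z, f (x + y) z = f x z * f y z)
    (hr : ∀ x y z, f x (y + z) = f x y * f x z) (ψ : K → K)
    (hψ : ∀ x y, x ≠ 0 → f x y = f 1 (ψ x * y))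
    {u : K} (hu : u ≠ 0) (hu1 : u + 1 ≠ 0) (hD : ψ (u + 1) - ψ u - ψ 1 ≠ 0) (x y : K) : f x y = 1 := by
  have h0r : f 1 0 = 1 := by
    have h := hr 1 0 0
    rwa [add_zero, left_eq_mul] at h
  have h0l : ∀ z, f 0 z = 1 := fun z => by
    have h := hl 0 0 z
    rwa [add_zero, left_eq_mul] at h
  have hone : ∀ z, f 1 z = 1 := by
    intro z
    obtain ⟨b, rfl⟩ : ∃ b, z = (ψ (u + 1) - ψ u - ψ 1) * b := ⟨_, (mul_inv_cancel_left₀ hD z).symm⟩
    have h := hl u 1 b
    rw [hψ _ b hu1, hψ _ b hu, hψ 1 b one_ne_zero, ← hr] at h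
    have h2 := hr 1 ((ψ (u + 1) - ψ u - ψ 1) * b) (ψ u * b + ψ 1 * b)
    rw [show (ψ (u + 1) - ψ u - ψ 1) * b + (ψ u * b + ψ 1 * b) = ψ (u + 1) * b by ring, h,
      right_eq_mul] at h2
    exact h2
  rcases eq_or_ne x 0 with rfl | hx
  · exact h0l y
  · rw [hψ x y hx, hone]

/-- A biadditive map invariant under all homotheties is trivial. -/
theorem scalar_trivial (f : K → K → M) (hl : ∀ x y z, f (x + y) z = f x z * f y z)
    (hr : ∀ x y z, f x (y + z) = f x y * f x z) (hinv : ∀ l : K, l ≠ 0 → ∀ x y, f (l * x) (l * y) = f x y)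
    {u : K} (hu : u ≠ 0) (hu1 : u + 1 ≠ 0) (hu2 : u ^ 2 + u + 1 ≠ 0) (x y : K) : f x y = 1 := by
  refine twist_trivial f hl hr (fun x => x⁻¹) (fun x y hx => ?_) hu hu1 ?_ x y
  · rw [← hinv x⁻¹ (inv_ne_zero hx) x y, inv_mul_cancel₀ hx]
  · intro h
    apply hu2
    have h' := congrArg (fun z => z * (u * (u + 1))) h
    simp only [inv_one] at h'
    field_simp at h'
    linear_combination -h'

end Pairing

/-! ### Exponents -/

section Exponents

variable {K : Type*} [Field K] [Finite K] {m : ℕ} (hK : Nat.card K = 3 ^ (2 * m + 1))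
include hK

theorem pow_sq_three (x : K) : (x ^ (3 * 3 ^ m)) ^ (3 * 3 ^ m) = x ^ 3 := by
  have : Fintype K := Fintype.ofFinite K
  rw [← pow_mul, show 3 * 3 ^ m * (3 * 3 ^ m) = 3 ^ (2 * m + 1) * 3 by ring, pow_mul, ← hK,
    Nat.card_eq_fintype_card, FiniteField.pow_card]

/-- The weight of the first coordinate is onto. -/
theorem exists_lam (x : Kˣ) : ∃ c : Kˣ, (c : K) ^ 2 * ((c : K) ^ (3 * 3 ^ m))⁻¹ = x ∧
    (c : K) = (x : K) ^ (3 * 3 ^ m + 2) ∧
    (c : K) ^ (3 * 3 ^ m) * (c : K)⁻¹ = (x : K) ^ (3 * 3 ^ m + 1) := by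
  refine ⟨x ^ (3 * 3 ^ m + 2), ?_, Units.val_pow_eq_pow_val _ _, ?_⟩
  · have hx : (x : K) ≠ 0 := x.ne_zero
    rw [Units.val_pow_eq_pow_val]; simp only [pow_add, mul_pow, pow_sq_three hK]
    simp only [← pow_mul, mul_comm 2 (3 * 3 ^ m)]
    simp only [pow_mul]
    field_simp
  · have hx : (x : K) ≠ 0 := x.ne_zero
    rw [Units.val_pow_eq_pow_val]; simp only [pow_add, mul_pow, pow_sq_three hK, pow_one]
    simp only [← pow_mul, mul_comm 2 (3 * 3 ^ m)]
    simp only [pow_mul]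
    field_simp

theorem odd_exp : Odd (3 * 3 ^ m) := (by decide : Odd 3).mul (Odd.pow (by decide))

/-- Every scalar is, up to sign, a weight of the second coordinate. -/
theorem exists_mu (l : K) (hl : l ≠ 0) : ∃ (c : Kˣ) (ε : K), (ε = 1 ∨ ε = -1) ∧
    l = ε * ((c : K) ^ (3 * 3 ^ m) * (c : K)⁻¹) := by
  have : Fintype K := Fintype.ofFinite K
  obtain ⟨k, hk⟩ := half_card m
  have hl1 : l ^ (2 * (2 * k + 1)) = 1 := by
    rw [← hk, ← hK, Nat.card_eq_fintype_card]; exact FiniteField.pow_card_sub_one_eq_one l hl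
  set r := l ^ (k + 1)
  set ε := l ^ (2 * k + 1)
  have hε : ε = 1 ∨ ε = -1 := by
    have h : (ε - 1) * (ε + 1) = 0 := by
      have : ε * ε = 1 := by rw [← pow_add, ← two_mul]; exact hl1
      linear_combination this
    rcases mul_eq_zero.1 h with h | h
    · exact Or.inl (sub_eq_zero.1 h)
    · exact Or.inr (eq_neg_of_add_eq_zero_left h)
  have hr : r ≠ 0 := pow_ne_zero _ hl
  refine ⟨(Units.mk0 r hr) ^ (3 * 3 ^ m + 1), ε, hε, ?_⟩
  rw [Units.val_pow_eq_pow_val, Units.val_mk0]; simp only [pow_add, mul_pow, pow_sq_three hK, pow_one]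
  rw [show r ^ 3 * r ^ (3 * 3 ^ m) * (r ^ (3 * 3 ^ m) * r)⁻¹ = r ^ 2 by field_simp,
    show r ^ 2 = l * ε by rw [← pow_mul, ← pow_succ', show (k + 1) * 2 = 2 * k + 1 + 1 by ring]]
  rcases hε with h | h <;> rw [h] <;> ring

theorem exists_good (hm : 1 ≤ m) : ∃ u : K, u ≠ 0 ∧ u + 1 ≠ 0 ∧ u ^ 2 + u + 1 ≠ 0 ∧
    ((u + 1) ^ (3 * 3 ^ m + 2))⁻¹ - (u ^ (3 * 3 ^ m + 2))⁻¹ - 1 ≠ 0 := by
  classical
  have : Fintype K := Fintype.ofFinite K
  set k := 3 * 3 ^ m + 2 with hk
  open Polynomial in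
  let p : K[X] := X * (X + 1) * (X * X + X + 1) * (X ^ k - (X + 1) ^ k - (X + 1) ^ k * X ^ k)
  have hlt : 2 * k + 4 < Fintype.card K := by
    rw [← Nat.card_eq_fintype_card, hK, hk]
    have h3 : 3 ≤ 3 ^ m := le_self_pow₀ (by norm_num) (by omega)
    rw [show 3 ^ (2 * m + 1) = 3 * (3 ^ m * 3 ^ m) by ring]
    nlinarith
  open Polynomial in
  have hdeg : p.natDegree ≤ 2 * k + 4 := by
    simp only [p]
    compute_degree
    all_goals omega
  open Polynomial in
  have hp : p ≠ 0 := by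
    simp only [p]
    refine mul_ne_zero (mul_ne_zero (mul_ne_zero X_ne_zero ?_) ?_) ?_ <;>
      · intro h
        have h' := congrArg (Polynomial.eval 0) h
        simp [zero_pow (show k ≠ 0 by omega)] at h'
  open Polynomial in
  have hroots : p.roots.toFinset.card < Fintype.card K :=
    ((Multiset.toFinset_card_le _).trans (p.card_roots'.trans hdeg)).trans_lt hlt
  obtain ⟨u, hu⟩ : ∃ u : K, u ∉ p.roots.toFinset := by
    by_contra h
    push Not at h
    rw [Finset.eq_univ_of_forall h] at hroots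
    simp at hroots
  open Polynomial in
  rw [Multiset.mem_toFinset, mem_roots hp, IsRoot] at hu
  simp only [p, Polynomial.eval_mul, Polynomial.eval_add, Polynomial.eval_sub, Polynomial.eval_pow,
    Polynomial.eval_X, Polynomial.eval_one, mul_ne_zero_iff] at hu
  obtain ⟨⟨⟨h0, h1⟩, h2⟩, h4⟩ := hu
  refine ⟨u, h0, h1, by rwa [pow_two], fun h => h4 ?_⟩
  have h' := congrArg (fun z => z * ((u + 1) ^ k * u ^ k)) h
  have hu1k : (u + 1) ^ k ≠ 0 := pow_ne_zero _ h1
  have huk : u ^ k ≠ 0 := pow_ne_zero _ h0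
  field_simp at h'
  linear_combination h'

end Exponents

/-! ### The Sylow subgroup -/

section Sylow

variable {K : Type*} [Field K] [Finite K] {m : ℕ} (hK : Nat.card K = 3 ^ (2 * m + 1))
include hK

/-- An element of the Sylow subgroup. -/
noncomputable def el (t u v : K) : ↥(S hK).fix := ⟨ree m t u v, ree_fix hK t u v⟩

theorem el_mem (t u v : K) : el hK t u v ∈ Upart hK :=
  Subgroup.mem_subgroupOf.mpr (ree_mem_pos hK t u v)

theorem exists_el {x : ↥(S hK).fix} (hx : x ∈ Upart hK) : ∃ t u v, x = el hK t u v := by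
  obtain ⟨t, u, v, h⟩ := exists_pos hK (Subgroup.mem_subgroupOf.mp hx)
  exact ⟨t, u, v, Subtype.ext h⟩

theorem el_mul (t u v t' u' v' : K) : ∃ w,
    el hK t u v * el hK t' u' v' = el hK (t + t') (u + u' - t * t' ^ (3 * 3 ^ m)) w := by
  obtain ⟨w, h⟩ := gen_ree_mul hK t u v t' u' v'
  exact ⟨w, Subtype.ext h⟩

theorem el_mul0 (t u v u' v' : K) : el hK t u v * el hK 0 u' v' = el hK t (u + u') (v + v') :=
  Subtype.ext (gen_mul_ree0 hK t u v u' v')

theorem el0_mul (t u v u' v' : K) : el hK 0 u' v' * el hK t u v = el hK t (u + u') (v + v' - t * u') :=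
  Subtype.ext (gen_ree0_mul hK t u v u' v')

theorem el_zero : el hK (0 : K) 0 0 = 1 := Subtype.ext (ree0_one hK)

theorem el_inj {t u v t' u' v' : K} (h : el hK t u v = el hK t' u' v') : t = t' ∧ u = u' ∧ v = v' :=
  ree_inj hK (congrArg Subtype.val h)

theorem hF_el (c : Kˣ) (t u v : K) : hF hK c * el hK t u v * (hF hK c)⁻¹ =
    el hK ((c : K) ^ 2 * ((c : K) ^ (3 * 3 ^ m))⁻¹ * t) ((c : K) ^ (3 * 3 ^ m) * (c : K)⁻¹ * u) (c * v) :=
  Subtype.ext (conj_hd hK c t u v)

theorem hF_neg (t u v : K) : hF hK (-1) * el hK t u v * (hF hK (-1))⁻¹ = el hK (-t) u (-v) := by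
  rw [hF_el]
  simp [(odd_exp hK).neg_one_pow]

/-- A derived element moved by conjugation. -/
theorem el0_conj (t u v u' v' : K) :
    el hK t u v * el hK 0 u' v' * (el hK t u v)⁻¹ = el hK 0 u' (v' + t * u') := by
  rw [mul_inv_eq_iff_eq_mul, el0_mul hK, el_mul0 hK]
  congr 1 <;> ring

theorem comm_el0 (t u v u' v' : K) : ⁅el hK t u v, el hK 0 u' v'⁆ = el hK 0 0 (t * u') := by
  rw [commutatorElement_def, el0_conj hK, mul_inv_eq_iff_eq_mul, el_mul0 hK, zero_add,
    add_comm (t * u')]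

theorem commute_Z (t u v w : K) : Commute (el hK t u v) (el hK 0 0 w) := by
  show el hK t u v * el hK 0 0 w = el hK 0 0 w * el hK t u v
  rw [el_mul0 hK, el0_mul hK, mul_zero, sub_zero]

theorem commute_Y (u v u' v' : K) : Commute (el hK 0 u v) (el hK 0 u' v') := by
  show el hK 0 u v * el hK 0 u' v' = el hK 0 u' v' * el hK 0 u v
  rw [el_mul0 hK, el_mul0 hK, add_comm u, add_comm v]

/-- Commutators lie in the derived part. -/
theorem comm_mem {x y : ↥(S hK).fix} (hx : x ∈ Upart hK) (hy : y ∈ Upart hK) :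
    ∃ u v, ⁅x, y⁆ = el hK 0 u v := by
  obtain ⟨t, u, v, h⟩ := exists_el hK
    (show ⁅x, y⁆ ∈ Upart hK by
      rw [commutatorElement_def]; exact mul_mem (mul_mem (mul_mem hx hy) (inv_mem hx)) (inv_mem hy))
  obtain ⟨a, b, c, rfl⟩ := exists_el hK hx
  obtain ⟨a', b', c', rfl⟩ := exists_el hK hy
  have e : el hK t u v * (el hK a' b' c' * el hK a b c) = el hK a b c * el hK a' b' c' := by
    rw [← h, commutatorElement_def]; group
  obtain ⟨w1, e1⟩ := el_mul hK a' b' c' a b c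
  obtain ⟨w2, e2⟩ := el_mul hK a b c a' b' c'
  obtain ⟨w3, e3⟩ := el_mul hK t u v (a' + a) (b' + b - a' * a ^ (3 * 3 ^ m)) w1
  rw [e1, e3, e2] at e
  obtain rfl : t = 0 := by linear_combination (el_inj hK e).1
  exact ⟨u, v, h⟩

end Sylow

/-! ### Central extensions -/

section Three

variable {K : Type*} [Field K] [Finite K] {m : ℕ} (hK : Nat.card K = 3 ^ (2 * m + 1))
include hK
variable {E : Type*} [Group E] {π : E →* ↥(S hK).fix} (hπ : Function.Surjective π)
  (hk : π.ker ≤ Subgroup.center E) (hm : 1 ≤ m)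
include hπ hk hm

/-- The commutator subgroup of the preimage of a Sylow 3-subgroup meets the kernel trivially. -/
theorem eq_one_three {z : E} (hz : π z = 1)
    (hd : z ∈ (commutator ((Upart hK).comap π)).map ((Upart hK).comap π).subtype) : z = 1 := by
  have h3 := three_eq_zero hK
  obtain ⟨u₀, hu0, hu1, hu2, hu3⟩ := exists_good hK hm
  obtain ⟨c₀, -, hcu, -⟩ := exists_gen_unit hK hm
  set g := gam π hπ with hg
  set s := Function.surjInv hπ with hs
  have hsπ : ∀ q, π (s q) = q := Function.surjInv_eq hπ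
  have hfix : ∀ (x : E) {w : E}, π w = 1 → x * w * x⁻¹ = w := fun x w hw => by
    rw [comm_of_ker hk hw, mul_inv_cancel_right]
  have hgc : ∀ {a b}, Commute a b → π (g a b) = 1 := fun {a b} h => by
    rw [hg, map_gam, commutatorElement_eq_one_iff_mul_comm]
    exact h.eq
  have hconj : ∀ a b q, s q * g a b * (s q)⁻¹ = g (q * a * q⁻¹) (q * b * q⁻¹) := fun a b q => by
    rw [hg, conj_gam hπ hk, hsπ]
  have ginv : ∀ {a b}, Commute a b → ∀ q, g (q * a * q⁻¹) (q * b * q⁻¹) = g a b := fun {a b} h q => by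
    rw [← hconj, hfix _ (hgc h)]
  have hgl : ∀ {a a' b}, Commute a' b → g (a * a') b = g a b * g a' b := fun {a a' b} h => by
    rw [hg, gam_mul_left hπ hk _ _ _ (gam_central hπ hk h _)]
    exact (comm_of_ker hk (hgc h) _).symm
  have hgr : ∀ {a b b'}, Commute a b' → g a (b * b') = g a b * g a b' := fun {a b b'} h => by
    rw [hg, gam_mul_right hπ hk _ _ _ (gam_central hπ hk h _)]
  -- the derived part upstairs is abelian
  have hU : ∀ u u', el hK 0 u 0 * el hK 0 u' 0 = el hK 0 (u + u') 0 := fun u u' => by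
    rw [el_mul0 hK, add_zero]
  have hV : ∀ v v', el hK 0 0 v * el hK 0 0 v' = el hK 0 0 (v + v') := fun v v' => by
    rw [el_mul0 hK, add_zero]
  have hUV : ∀ u v, el hK 0 u v = el hK 0 u 0 * el hK 0 0 v := fun u v => by
    rw [el_mul0 hK, add_zero, zero_add]
  have uu : ∀ u u', g (el hK 0 u 0) (el hK 0 u' 0) = 1 := by
    refine scalar_trivial _ (fun x y w => by rw [← hU, hgl (commute_Y hK _ _ _ _)])
      (fun x y w => by rw [← hU, hgr (commute_Y hK _ _ _ _)]) (fun l hl x y => ?_) hu0 hu1 hu2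
    obtain ⟨c, ε, hε, rfl⟩ := exists_mu hK l hl
    have h := ginv (commute_Y hK (ε * x) 0 (ε * y) 0) (hF hK c)
    rw [hF_el, hF_el, mul_zero, mul_zero, ← mul_assoc, ← mul_assoc, mul_comm _ ε] at h
    rw [h]
    rcases hε with rfl | rfl
    · rw [one_mul, one_mul]
    · have key : ∀ a b, g (el hK 0 (-a) 0) (el hK 0 b 0) = (g (el hK 0 a 0) (el hK 0 b 0))⁻¹ := fun a b => by
        refine eq_inv_of_mul_eq_one_left ?_
        rw [← hgl (commute_Y hK _ _ _ _), hU, neg_add_cancel, el_zero]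
        show gam π hπ 1 _ = 1
        have e : π (1 : E) = 1 := map_one π
        rw [← e, ← hsπ (el hK 0 b 0), ← commutator_eq_gam hπ hk, commutatorElement_one_left]
      have key' : ∀ a b, g (el hK 0 a 0) (el hK 0 (-b) 0) = (g (el hK 0 a 0) (el hK 0 b 0))⁻¹ := fun a b => by
        refine eq_inv_of_mul_eq_one_left ?_
        rw [← hgr (commute_Y hK _ _ _ _), hU, neg_add_cancel, el_zero]
        show gam π hπ _ 1 = 1
        have e : π (1 : E) = 1 := map_one π
        rw [← e, ← hsπ (el hK 0 a 0), ← commutator_eq_gam hπ hk, commutatorElement_one_right]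
      rw [neg_one_mul, neg_one_mul, key, key', inv_inv]
  have uv : ∀ v u, g (el hK 0 0 v) (el hK 0 u 0) = 1 := by
    refine sign_trivial h3 _ (fun x y w => by rw [← hV, hgl (commute_Y hK _ _ _ _)]) (fun x y => ?_)
    have h := ginv (commute_Y hK 0 x y 0) (hF hK (-1))
    rwa [hF_neg, hF_neg, neg_zero] at h
  have vv : ∀ v v', g (el hK 0 0 v) (el hK 0 0 v') = 1 := by
    refine scalar_trivial _ (fun x y w => by rw [← hV, hgl (commute_Y hK _ _ _ _)])
      (fun x y w => by rw [← hV, hgr (commute_Y hK _ _ _ _)]) (fun l hl x y => ?_) hu0 hu1 hu2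
    have h := ginv (commute_Y hK 0 x 0 y) (hF hK (Units.mk0 l hl))
    rwa [hF_el, hF_el, mul_zero, mul_zero, Units.val_mk0] at h
  have hY : ∀ {x y : E} {u v u' v' : K}, π x = el hK 0 u v → π y = el hK 0 u' v' → Commute x y := by
    intro x y u v u' v' hx hy
    refine commutatorElement_eq_one_iff_mul_comm.1 ?_
    rw [commutator_eq_gam hπ hk, hx, hy, ← hg, hUV u v, hgl (commute_Y hK _ _ _ _), hUV u' v',
      hgr (commute_Y hK _ _ _ _), hgr (commute_Y hK _ _ _ _), uu, uv, vv]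
    have : g (el hK 0 u 0) (el hK 0 0 v') = 1 := by
      rw [hg, gam, ← commutatorElement_inv, ← gam, ← hg, uv, inv_one]
    rw [this]; simp
  -- the centre of the Sylow subgroup lifts to central elements
  have tv : ∀ t v, g (el hK t 0 0) (el hK 0 0 v) = 1 := by
    refine twist_trivial _ (fun x y w => ?_) (fun x y w => by rw [← hV, hgr (commute_Z hK _ _ _ _)])
      (fun x => (x ^ (3 * 3 ^ m + 2))⁻¹) (fun x y hx => ?_) hu0 hu1 ?_
    · obtain ⟨e, he⟩ := el_mul hK x 0 0 y 0 0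
      have e' : el hK x 0 0 * el hK y 0 0 =
          el hK (x + y) 0 0 * el hK 0 (0 + 0 - x * y ^ (3 * 3 ^ m)) e := by
        simp only [he, el_mul0 hK, zero_add, add_zero]
      have h1 := hgl (a := el hK (x + y) 0 0) (a' := el hK 0 (0 + 0 - x * y ^ (3 * 3 ^ m)) e)
        (commute_Z hK 0 (0 + 0 - x * y ^ (3 * 3 ^ m)) e w)
      rw [← e', hgl (commute_Z hK y 0 0 w), hUV (0 + 0 - x * y ^ (3 * 3 ^ m)) e,
        hgl (commute_Y hK _ _ _ _)] at h1
      have h2 : g (el hK 0 (0 + 0 - x * y ^ (3 * 3 ^ m)) 0) (el hK 0 0 w) = 1 := by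
        rw [hg, gam, ← commutatorElement_inv, ← gam, ← hg, uv, inv_one]
      rw [h2, vv, one_mul, mul_one] at h1
      exact h1.symm
    · obtain ⟨c, hc1, hc2, -⟩ := exists_lam hK (Units.mk0 x hx)
      have h := ginv (commute_Z hK 1 0 0 ((x ^ (3 * 3 ^ m + 2))⁻¹ * y)) (hF hK c)
      rw [hF_el, hF_el, hc1, hc2, Units.val_mk0, mul_zero, mul_zero, mul_zero, mul_one,
        mul_inv_cancel_left₀ (pow_ne_zero _ hx)] at h
      exact h
    · simpa using hu3
  have hZ : ∀ {x y : E} {t u v w : K}, π x = el hK t u v → π y = el hK 0 0 w → Commute x y := by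
    intro x y t u v w hx hy
    refine commutatorElement_eq_one_iff_mul_comm.1 ?_
    rw [commutator_eq_gam hπ hk, hx, hy, ← hg, show el hK t u v = el hK t 0 0 * el hK 0 u v by
      rw [el_mul0 hK, zero_add, zero_add], hgl (commute_Y hK _ _ _ _), tv, one_mul]
    have h := commutatorElement_eq_one_iff_mul_comm.2
      (hY (hsπ (el hK 0 u v)) (hsπ (el hK 0 0 w))).eq
    exact h
  -- the equivariant lifts
  set μ₀ : K := (c₀ : K) ^ (3 * 3 ^ m) * (c₀ : K)⁻¹ with hμ₀
  have hμ1 : μ₀ - 1 ≠ 0 := fun h => hcu (by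
    have h' := congrArg (fun x => x * (c₀ : K)) (sub_eq_zero.1 h)
    simpa [hμ₀, mul_assoc] using h')
  set η : K → E := fun u => g (hF hK c₀) (el hK 0 ((μ₀ - 1)⁻¹ * u) 0) with hη
  set ζ : K → E := fun v => g (hF hK (-1)) (el hK 0 0 v) with hζ
  have el0_inv : ∀ u v, (el hK 0 u v)⁻¹ = el hK 0 (-u) (-v) := fun u v => inv_eq_of_mul_eq_one_right (by
    rw [el_mul0 hK, add_neg_cancel, add_neg_cancel, el_zero])
  have hπη : ∀ u, π (η u) = el hK 0 u 0 := fun u => by
    rw [hη, hg, map_gam, commutatorElement_def, hF_el, ← hμ₀, mul_zero, mul_zero, el0_inv, el_mul0 hK,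
      neg_zero, add_zero]
    congr 1
    calc _ = ((μ₀ - 1) * (μ₀ - 1)⁻¹) * u := by ring
      _ = u := by rw [mul_inv_cancel₀ hμ1, one_mul]
  have hπζ : ∀ v, π (ζ v) = el hK 0 0 v := fun v => by
    rw [hζ, hg, map_gam, commutatorElement_def, hF_neg, neg_zero, el0_inv, el_mul0 hK, neg_zero, add_zero]
    congr 1
    linear_combination -v * h3
  have hηadd : ∀ u u', η (u + u') = η u * η u' := fun u u' => by
    simp only [hη]
    rw [mul_add, ← hU, hg, gam_mul_right hπ hk _ _ _ (hY (hsπ _) (hπη u'))]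
  have hζadd : ∀ v v', ζ (v + v') = ζ v * ζ v' := fun v v' => by
    simp only [hζ]
    rw [← hV, hg, gam_mul_right hπ hk _ _ _ (hY (hsπ _) (hπζ v'))]
  have torus : ∀ c d : Kˣ, hF hK c * hF hK d * (hF hK c)⁻¹ = hF hK d := fun c d => by
    rw [← map_mul, mul_comm, map_mul, mul_inv_cancel_right]
  have hηconj : ∀ c u, s (hF hK c) * η u * (s (hF hK c))⁻¹ =
      η ((c : K) ^ (3 * 3 ^ m) * (c : K)⁻¹ * u) := fun c u => by
    rw [hη, hconj, torus, hF_el, mul_zero, mul_zero, mul_left_comm]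
  have hζconj : ∀ c v, s (hF hK c) * ζ v * (s (hF hK c))⁻¹ = ζ ((c : K) * v) := fun c v => by
    rw [hζ, hconj, torus, hF_el, mul_zero, mul_zero]
  have hζcomm : ∀ {x : E} {t u v : K}, π x = el hK t u v → ∀ w, Commute x (ζ w) := fun hx w => hZ hx (hπζ w)
  have hζ0 : ζ 0 = 1 := by
    have h := hζadd 0 0
    rwa [add_zero, left_eq_mul] at h
  have hη0 : η 0 = 1 := by
    have h := hηadd 0 0
    rwa [add_zero, left_eq_mul] at h
  -- commutators of the first two layers
  have tu : ∀ t u, g (el hK t 0 0) (el hK 0 u 0) = ζ (t * u) := by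
    let r : K → K → E := fun t u => g (el hK t 0 0) (el hK 0 u 0) * (ζ (t * u))⁻¹
    have hπr : ∀ t u, π (r t u) = 1 := fun t u => by
      rw [map_mul, map_inv, hg, map_gam, hπζ, comm_el0 hK, mul_inv_cancel]
    have hrc : ∀ t u, g (el hK t 0 0) (el hK 0 u 0) = r t u * ζ (t * u) := fun t u =>
      (inv_mul_cancel_right _ _).symm
    have hπg : ∀ t u, π (g (el hK t 0 0) (el hK 0 u 0)) = el hK 0 0 (t * u) := fun t u => by
      rw [hg, map_gam, comm_el0 hK]
    have h := sign_trivial h3 r (fun x y u => ?_) (fun x u => ?_)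
    · intro t u
      rw [hrc, h, one_mul]
    · obtain ⟨e, he⟩ := el_mul hK x 0 0 y 0 0
      have e' : el hK x 0 0 * el hK y 0 0 =
          el hK (x + y) 0 0 * el hK 0 (0 + 0 - x * y ^ (3 * 3 ^ m)) e := by
        simp only [he, el_mul0 hK, zero_add, add_zero]
      have h1 := hgl (a := el hK (x + y) 0 0) (a' := el hK 0 (0 + 0 - x * y ^ (3 * 3 ^ m)) e)
        (commute_Y hK (0 + 0 - x * y ^ (3 * 3 ^ m)) e u 0)
      have h2 : g (el hK 0 (0 + 0 - x * y ^ (3 * 3 ^ m)) e) (el hK 0 u 0) = 1 :=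
        commutatorElement_eq_one_iff_mul_comm.2 (hY (hsπ _) (hsπ _)).eq
      rw [← e', h2, mul_one, hg, gam_mul_left hπ hk _ _ _ (hZ (hsπ _) (hπg y u)), ← hg, hrc, hrc] at h1
      show g (el hK (x + y) 0 0) (el hK 0 u 0) * (ζ ((x + y) * u))⁻¹ = r x u * r y u
      rw [← h1, add_mul, hζadd, mul_inv_rev]
      have c1 := comm_of_ker hk (hπr x u) (ζ (y * u))
      calc r y u * ζ (y * u) * (r x u * ζ (x * u)) * ((ζ (y * u))⁻¹ * (ζ (x * u))⁻¹)
          = r y u * (r x u * ζ (y * u)) * ζ (x * u) * ((ζ (y * u))⁻¹ * (ζ (x * u))⁻¹) := by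
            rw [← c1]; group
        _ = r y u * r x u * (ζ (y * u) * ζ (x * u)) * ((ζ (y * u))⁻¹ * (ζ (x * u))⁻¹) := by group
        _ = r x u * r y u * (ζ (x * u) * ζ (y * u)) * ((ζ (y * u))⁻¹ * (ζ (x * u))⁻¹) := by
            rw [← hζadd, ← hζadd, add_comm (y * u), comm_of_ker hk (hπr x u) (r y u)]
        _ = r x u * r y u := by group
    · have h' := hfix (s (hF hK (-1))) (hπr x u)
      simp only [r] at h' ⊢
      rw [show ∀ p a b : E, p * (a * b⁻¹) * p⁻¹ = (p * a * p⁻¹) * (p * b * p⁻¹)⁻¹ from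
        fun p a b => by group, hζconj, hconj, hF_neg, hF_neg, neg_zero] at h'
      rw [← h', neg_mul, Units.val_neg, Units.val_one, neg_one_mul]
  -- a lift of the derived part, compatible with conjugation
  obtain ⟨L, hLdef⟩ : ∃ L : K → K → E, ∀ u v, L u v = η u * ζ v := ⟨_, fun _ _ => rfl⟩
  have hπL : ∀ u v, π (L u v) = el hK 0 u v := fun u v => by rw [hLdef, map_mul, hπη, hπζ, ← hUV]
  have hLadd : ∀ u v u' v', L (u + u') (v + v') = L u v * L u' v' := fun u v u' v' => by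
    simp only [hLdef, hηadd, hζadd]
    rw [mul_assoc (η u) (η u'), ← mul_assoc (η u'), (hζcomm (hπη u') v).eq]
    group
  have hLconj : ∀ {x : E} {t u v : K}, π x = el hK t u v → ∀ u' v',
      x * L u' v' * x⁻¹ = L u' (v' + t * u') := by
    intro x t u v hx u' v'
    have e1 : ⁅x, η u'⁆ = ζ (t * u') := by
      rw [commutator_eq_gam hπ hk, hx, hπη, ← hg, show el hK t u v = el hK t 0 0 * el hK 0 u v by
        rw [el_mul0 hK, zero_add, zero_add], hgl (commute_Y hK _ _ _ _), tu,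
        show g (el hK 0 u v) (el hK 0 u' 0) = 1 from
          commutatorElement_eq_one_iff_mul_comm.2 (hY (hsπ _) (hsπ _)).eq, mul_one]
    simp only [hLdef]
    calc x * (η u' * ζ v') * x⁻¹ = ⁅x, η u'⁆ * η u' * (x * ζ v' * x⁻¹) := by
          rw [commutatorElement_def]; group
      _ = ζ (t * u') * η u' * ζ v' := by rw [e1, (hζcomm hx v').eq, mul_inv_cancel_right]
      _ = η u' * ζ (v' + t * u') := by
          rw [← (hζcomm (hπη u') (t * u')).eq, mul_assoc, ← hζadd, add_comm]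
  -- the defect of a commutator
  let Yel : K × K → ↥(S hK).fix := fun p => el hK 0 p.1 p.2
  have hYinj : Function.Injective Yel := fun p q h => Prod.ext (el_inj hK h).2.1 (el_inj hK h).2.2
  obtain ⟨R, hR⟩ : ∃ R : ↥(S hK).fix → ↥(S hK).fix → E, ∀ {x y u v}, ⁅x, y⁆ = el hK 0 u v →
      g x y = R x y * L u v ∧ π (R x y) = 1 := by
    refine ⟨fun x y => g x y * (L (Function.invFun Yel ⁅x, y⁆).1 (Function.invFun Yel ⁅x, y⁆).2)⁻¹,
      fun {x y u v} h => ?_⟩
    have hi : Function.invFun Yel ⁅x, y⁆ = (u, v) := by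
      rw [h]; exact Function.leftInverse_invFun hYinj (u, v)
    simp only [hi, inv_mul_cancel_right, true_and]
    rw [map_mul, map_inv, hg, map_gam, h, hπL, mul_inv_cancel]
  have hRl : ∀ {x x' y}, x ∈ Upart hK → x' ∈ Upart hK → y ∈ Upart hK → R (x * x') y = R x y * R x' y := by
    intro x x' y hx hx' hy
    obtain ⟨t, a, b, rfl⟩ := exists_el hK hx
    obtain ⟨u, v, h1⟩ := comm_mem hK hx hy
    obtain ⟨u', v', h2⟩ := comm_mem hK hx' hy
    have h12 : ⁅el hK t a b * x', y⁆ = el hK 0 (u' + u) (v' + t * u' + v) := by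
      rw [show ⁅el hK t a b * x', y⁆ = el hK t a b * ⁅x', y⁆ * (el hK t a b)⁻¹ * ⁅el hK t a b, y⁆ by
        simp only [commutatorElement_def]; group, h1, h2, el0_conj hK, el_mul0 hK]
    obtain ⟨e1, k1⟩ := hR h1
    obtain ⟨e2, k2⟩ := hR h2
    obtain ⟨e12, k12⟩ := hR h12
    have key : g (el hK t a b * x') y = s (el hK t a b) * g x' y * (s (el hK t a b))⁻¹ * g (el hK t a b) y := by
      simp only [hg, gam]
      rw [← hs, ← commutator_congr_left hk (show π (s (el hK t a b) * s x') = π (s (el hK t a b * x')) by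
        rw [map_mul, hsπ, hsπ, hsπ]) (s y)]
      simp only [commutatorElement_def]; group
    rw [e12, e1, e2, show ∀ p r l : E, p * (r * l) * p⁻¹ = (p * r * p⁻¹) * (p * l * p⁻¹) from
      fun p r l => by group, hfix _ k2, hLconj (hsπ _), mul_assoc (R x' y), ← mul_assoc (L u' _),
      comm_of_ker hk k1, mul_assoc, ← hLadd, ← mul_assoc] at key
    rw [comm_of_ker hk k1 (R x' y)] at key
    exact mul_right_cancel key
  have hR_symm : ∀ {x y}, x ∈ Upart hK → y ∈ Upart hK → R y x = (R x y)⁻¹ := by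
    intro x y hx hy
    obtain ⟨u, v, h⟩ := comm_mem hK hx hy
    have h' : ⁅y, x⁆ = el hK 0 (-u) (-v) := by rw [← commutatorElement_inv, h, el0_inv]
    obtain ⟨e1, k1⟩ := hR h
    obtain ⟨e2, -⟩ := hR h'
    have hL : L (-u) (-v) = (L u v)⁻¹ := by
      refine eq_inv_of_mul_eq_one_left ?_
      rw [← hLadd, neg_add_cancel, neg_add_cancel]
      simp only [hLdef, hη0, hζ0, mul_one]
    rw [show g y x = (g x y)⁻¹ by simp only [hg, gam, commutatorElement_inv], e1, hL, mul_inv_rev,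
      comm_of_ker hk (show π (R x y)⁻¹ = 1 by rw [map_inv, k1, inv_one])] at e2
    exact (mul_right_cancel e2.symm)
  have hR0 : ∀ t u v, R (el hK t 0 0) (el hK 0 u v) = 1 := by
    intro t u v
    obtain ⟨e1, -⟩ := hR (comm_el0 hK t 0 0 u v)
    rw [hUV u v, hgr (commute_Z hK _ _ _ _), tu, tv, mul_one] at e1
    simp only [hLdef, hη0, one_mul, ← hUV] at e1
    exact (right_eq_mul.1 e1.symm.symm)
  have hR00 : ∀ u v u' v', R (el hK 0 u v) (el hK 0 u' v') = 1 := by
    intro u v u' v'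
    obtain ⟨e1, -⟩ := hR (comm_el0 hK 0 u v u' v')
    rw [show g (el hK 0 u v) (el hK 0 u' v') = 1 from
      commutatorElement_eq_one_iff_mul_comm.2 (hY (hsπ _) (hsπ _)).eq] at e1
    simp only [hLdef, hη0, zero_mul, hζ0, mul_one] at e1
    exact e1.symm
  have hsplit : ∀ t u v, el hK t u v = el hK t 0 0 * el hK 0 u v := fun t u v => by
    rw [el_mul0 hK, zero_add, zero_add]
  have hRY : ∀ {x} (u v : K), x ∈ Upart hK → R x (el hK 0 u v) = 1 := by
    intro x u v hx
    obtain ⟨t, a, b, rfl⟩ := exists_el hK hx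
    rw [hsplit, hRl (el_mem hK _ _ _) (el_mem hK _ _ _) (el_mem hK _ _ _), hR0, hR00, one_mul]
  have hRY' : ∀ {x} (u v : K), x ∈ Upart hK → R (el hK 0 u v) x = 1 := fun u v hx => by
    rw [hR_symm hx (el_mem hK _ _ _), hRY u v hx, inv_one]
  have hRr : ∀ {x y y'}, x ∈ Upart hK → y ∈ Upart hK → y' ∈ Upart hK → R x (y * y') = R x y * R x y' := by
    intro x y y' hx hy hy'
    rw [hR_symm (mul_mem hy hy') hx, hRl hy hy' hx, mul_inv_rev, hR_symm hx hy', hR_symm hx hy, inv_inv,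
      inv_inv]
    obtain ⟨u, v, h⟩ := comm_mem hK hx hy
    exact comm_of_ker hk (hR h).2 _
  have tt : ∀ t t', R (el hK t 0 0) (el hK t' 0 0) = 1 := by
    refine scalar_trivial _ (fun x y w => ?_) (fun w x y => ?_) (fun l hl x y => ?_) hu0 hu1 hu2
    · obtain ⟨e, he⟩ := el_mul hK x 0 0 y 0 0
      rw [← hRl (el_mem hK _ _ _) (el_mem hK _ _ _) (el_mem hK _ _ _), he, hsplit (x + y) (_ - _) e,
        hRl (el_mem hK _ _ _) (el_mem hK _ _ _) (el_mem hK _ _ _), hRY' _ _ (el_mem hK _ _ _), mul_one]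
    · obtain ⟨e, he⟩ := el_mul hK x 0 0 y 0 0
      rw [← hRr (el_mem hK _ _ _) (el_mem hK _ _ _) (el_mem hK _ _ _), he, hsplit (x + y) (_ - _) e,
        hRr (el_mem hK _ _ _) (el_mem hK _ _ _) (el_mem hK _ _ _), hRY _ _ (el_mem hK _ _ _), mul_one]
    · obtain ⟨c, hc, -, -⟩ := exists_lam hK (Units.mk0 l hl)
      obtain ⟨u, v, h⟩ := comm_mem hK (el_mem hK x 0 0) (el_mem hK y 0 0)
      have h' : ⁅el hK (l * x) 0 0, el hK (l * y) 0 0⁆ =
          el hK 0 ((c : K) ^ (3 * 3 ^ m) * (c : K)⁻¹ * u) (c * v) := by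
        have hc' := congrArg (fun q => hF hK c * q * (hF hK c)⁻¹) h
        rw [show ∀ p a b : ↥(S hK).fix, p * ⁅a, b⁆ * p⁻¹ = ⁅p * a * p⁻¹, p * b * p⁻¹⁆ from
          fun p a b => by simp only [commutatorElement_def]; group] at hc'
        simpa [hF_el, hc] using hc'
      obtain ⟨e1, k1⟩ := hR h
      obtain ⟨e2, -⟩ := hR h'
      have h4 := hconj (el hK x 0 0) (el hK y 0 0) (hF hK c)
      rw [hF_el, hF_el, hc, Units.val_mk0, mul_zero, mul_zero, e1, e2, hLdef, hLdef,
        show ∀ p r a b : E, p * (r * (a * b)) * p⁻¹ = (p * r * p⁻¹) * ((p * a * p⁻¹) * (p * b * p⁻¹)) from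
          fun p r a b => by group, hfix _ k1, hηconj, hζconj] at h4
      exact (mul_right_cancel h4).symm
  -- conclusion
  let Sg : Subgroup E :=
    { carrier := Set.range fun p : K × K => L p.1 p.2
      one_mem' := ⟨(0, 0), by simp only [hLdef, hη0, hζ0, mul_one]⟩
      mul_mem' := by
        rintro _ _ ⟨p, rfl⟩ ⟨q, rfl⟩
        exact ⟨(p.1 + q.1, p.2 + q.2), hLadd _ _ _ _⟩
      inv_mem' := by
        rintro _ ⟨p, rfl⟩
        refine ⟨(-p.1, -p.2), eq_inv_of_mul_eq_one_left ?_⟩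
        show L (-p.1) (-p.2) * L p.1 p.2 = 1
        rw [← hLadd, neg_add_cancel, neg_add_cancel]
        simp only [hLdef, hη0, hζ0, mul_one] }
  have hle : (commutator ((Upart hK).comap π)).map ((Upart hK).comap π).subtype ≤ Sg := by
    rw [Subgroup.map_le_iff_le_comap, _root_.commutator_def, Subgroup.commutator_le]
    rintro ⟨x, hx⟩ - ⟨y, hy⟩ -
    show ⁅x, y⁆ ∈ Sg
    obtain ⟨u, v, h⟩ := comm_mem hK hx hy
    obtain ⟨t, a, b, ex⟩ := exists_el hK hx
    obtain ⟨t', a', b', ey⟩ := exists_el hK hy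
    refine ⟨(u, v), ?_⟩
    have e1 := (hR h).1
    rw [show R (π x) (π y) = 1 by
      rw [ex, ey, hsplit t a b, hRl (el_mem hK _ _ _) (el_mem hK _ _ _) (el_mem hK _ _ _),
        hRY' _ _ (el_mem hK _ _ _), mul_one, hsplit t' a' b',
        hRr (el_mem hK _ _ _) (el_mem hK _ _ _) (el_mem hK _ _ _), tt, hRY _ _ (el_mem hK _ _ _), one_mul],
      one_mul] at e1
    rw [commutator_eq_gam hπ hk, ← hg, e1]
  obtain ⟨⟨u, v⟩, rfl⟩ := hle hd
  rw [hπL, ← el_zero hK] at hz
  obtain ⟨-, rfl, rfl⟩ := el_inj hK hz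
  simp only [hLdef, hη0, hζ0, mul_one]

end Three

end CfsgLib.KnownA.ReeMultiplier
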